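import Cfsg.Agent.Lib.SmallOrder.Basic
import Cfsg.Agent.Lib.Transfer.AbelianSylow
import Mathlib.Data.Set.Card.Arithmetic
import Mathlib.Algebra.BigOperators.Finprod

/-!
# Tools for recognising small `PSL(2,2^n)` by order

Self-centralizing abelian Sylow subgroups with normalizer of twice their order, and counting the
nontrivial elements of a family of subgroups intersecting trivially.
-/

set_option autoImplicit false
set_option linter.style.haveILetI false

namespace CfsgLib.SmallPSL

open Subgroup

variable {G : Type*} [Group G]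

theorem commutator_eq_top [IsSimpleGroup G] (hG : ¬ IsMulCommutative G) : commutator G = ⊤ := by
  rcases (inferInstance : (commutator G).Normal).eq_bot_or_eq_top with h | h
  · refine absurd ?_ hG
    rw [commutator_def, Subgroup.commutator_eq_bot_iff_le_centralizer] at h
    exact ⟨⟨fun a b => Subgroup.mem_centralizer_iff.1 (h (Subgroup.mem_top b)) a (Subgroup.mem_top a)⟩⟩
  · exact h

/-- In a perfect group, an abelian Sylow subgroup of index two in its normalizer is the centralizer,
inside that normalizer, of each of its nontrivial elements. -/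
theorem mem_of_mem_centralizer [Finite G] (hperf : commutator G = ⊤) {p : ℕ} [Fact p.Prime]
    (P : Sylow p G) (hP : IsMulCommutative (P : Subgroup G))
    (hN : Nat.card (normalizer ((P : Subgroup G) : Set G)) = 2 * Nat.card (P : Subgroup G))
    {x : G} (hx : x ∈ (P : Subgroup G)) (hx1 : x ≠ 1) {u : G}
    (hu : u ∈ normalizer ((P : Subgroup G) : Set G)) (hux : u ∈ centralizer ({x} : Set G)) :
    u ∈ (P : Subgroup G) := by
  by_contra huP
  set M : Subgroup G := centralizer ({x} : Set G) ⊓ normalizer ((P : Subgroup G) : Set G)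
  have hPM : (P : Subgroup G) ≤ M := le_inf (fun y hy => mem_centralizer_singleton_iff.2
    (congrArg Subtype.val (hP.is_comm.comm ⟨y, hy⟩ ⟨x, hx⟩))) Subgroup.le_normalizer
  have hM : M = normalizer ((P : Subgroup G) : Set G) := by
    refine Subgroup.eq_of_le_of_card_ge inf_le_right ?_
    have h1 := Subgroup.card_mul_index ((P : Subgroup G).subgroupOf M)
    rw [Nat.card_congr (Subgroup.subgroupOfEquivOfLe hPM).toEquiv] at h1
    have h2 : ((P : Subgroup G).subgroupOf M).index ≠ 1 := fun h =>
      huP (Subgroup.subgroupOf_eq_top.1 (Subgroup.index_eq_one.1 h) ⟨hux, hu⟩)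
    have h3 := Subgroup.index_ne_zero_of_finite (H := (P : Subgroup G).subgroupOf M)
    rw [hN, ← h1, mul_comm 2]
    exact Nat.mul_le_mul_left _ (by omega)
  refine hx1 (CfsgLib.Transfer.abelian_sylow_centralPart_inf_commutator P hP hx ?_ (hperf ▸ mem_top x))
  rw [mem_centralizer_iff]
  intro n hn
  exact mem_centralizer_singleton_iff.1 (hM.symm.le hn).1

/-- The elements outside such a Sylow subgroup in its normalizer invert it. -/
theorem inverts [Finite G] (hperf : commutator G = ⊤) {p : ℕ} [Fact p.Prime]
    (P : Sylow p G) (hP : IsMulCommutative (P : Subgroup G))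
    (hN : Nat.card (normalizer ((P : Subgroup G) : Set G)) = 2 * Nat.card (P : Subgroup G))
    {u : G} (hu : u ∈ normalizer ((P : Subgroup G) : Set G)) (huP : u ∉ (P : Subgroup G))
    {y : G} (hy : y ∈ (P : Subgroup G)) : u * y * u⁻¹ = y⁻¹ := by
  have hy' : u * y * u⁻¹ ∈ (P : Subgroup G) := (mem_normalizer_iff.1 hu y).1 hy
  have hu2 : u * u ∈ (P : Subgroup G) := by
    have hle : (P : Subgroup G) ≤ normalizer ((P : Subgroup G) : Set G) := Subgroup.le_normalizer
    have h := Subgroup.mul_self_mem_of_index_two (H := (P : Subgroup G).subgroupOf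
      (normalizer ((P : Subgroup G) : Set G))) (by
        have h1 := Subgroup.card_mul_index ((P : Subgroup G).subgroupOf
          (normalizer ((P : Subgroup G) : Set G)))
        rw [Nat.card_congr (Subgroup.subgroupOfEquivOfLe hle).toEquiv, hN, mul_comm 2] at h1
        exact Nat.eq_of_mul_eq_mul_left Nat.card_pos h1) ⟨u, hu⟩
    exact h
  have hc : ∀ a ∈ (P : Subgroup G), ∀ b ∈ (P : Subgroup G), a * b = b * a := fun a ha b hb =>
    congrArg Subtype.val (hP.is_comm.comm ⟨a, ha⟩ ⟨b, hb⟩)
  have hfix : u * (y * (u * y * u⁻¹)) = y * (u * y * u⁻¹) * u := by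
    calc u * (y * (u * y * u⁻¹)) = (u * y * u⁻¹) * ((u * u) * y * (u * u)⁻¹) * u := by group
      _ = (u * y * u⁻¹) * y * u := by rw [hc _ hu2 _ hy]; group
      _ = y * (u * y * u⁻¹) * u := by rw [hc _ hy' _ hy]
  by_contra hne
  refine huP (mem_of_mem_centralizer hperf P hP hN (mul_mem hy hy') ?_ hu
    (mem_centralizer_singleton_iff.2 hfix))
  intro h
  exact hne (eq_inv_of_mul_eq_one_right h)

/-- The nontrivial elements of subgroups of equal order meeting pairwise trivially. -/
theorem ncard_iUnion_sdiff_one [Finite G] {ι : Type*} [Finite ι] (H : ι → Subgroup G) {m : ℕ}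
    (hm : ∀ i, Nat.card (H i) = m) (hd : ∀ i j, ∀ x : G, x ∈ H i → x ∈ H j → x ≠ 1 → i = j) :
    (⋃ i, (H i : Set G) \ {1}).ncard = Nat.card ι * (m - 1) := by
  classical
  haveI := Fintype.ofFinite ι
  rw [Set.ncard_iUnion_of_finite (fun i => Set.toFinite _) (fun i j hij =>
    Set.disjoint_left.2 fun x hx hx' => hij (hd i j x hx.1 hx'.1 hx.2)), finsum_eq_sum_of_fintype]
  have h : ∀ i, ((H i : Set G) \ {1}).ncard = m - 1 := fun i => by
    rw [Set.ncard_sdiff_singleton_of_mem (H i).one_mem, ← Nat.card_coe_set_eq]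
    exact congrArg (· - 1) (hm i)
  rw [Finset.sum_congr rfl fun i _ => h i, Finset.sum_const, Finset.card_univ, smul_eq_mul,
    Nat.card_eq_fintype_card]

end CfsgLib.SmallPSL
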