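import Cfsg.Agent.Lib.SmallPSL.Basic
import Cfsg.Agent.Lib.SmallOrder.SingularCount
import Cfsg.Agent.Lib.SEmb.ZassenhausSL2

/-!
# A simple group of order 4080 has elementary abelian involution centralizers
-/

set_option autoImplicit false
set_option linter.style.haveILetI false
set_option maxHeartbeats 800000

namespace CfsgLib.SmallPSL

open Subgroup CfsgLib.SmallOrder

variable {G : Type*} [Group G] [Finite G]

omit [Finite G] in
/-- If all 2-elements are involutions and involution centralizers are 2-groups, they are elementary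
abelian. -/
theorem elemCent_of_exponent [IsSimpleGroup G] (T : Sylow 2 G) {k : ℕ} (hk : 2 ≤ k)
    (hT : Nat.card (T : Subgroup G) = 2 ^ k) (hne : Nat.card G ≠ 2 ^ k)
    (hexp : ∀ g : G, orderOf g ∣ 2 ^ k → g ^ 2 = 1)
    (hcent : ∀ t : G, orderOf t = 2 → Nat.card (centralizer ({t} : Set G)) ∣ 2 ^ k) :
    CfsgLib.SEmb.ElemCent T := by
  have h4 : 4 ≤ 2 ^ k := le_trans (le_of_eq (by norm_num)) (Nat.pow_le_pow_right two_pos hk)
  have hord : ∀ {H : Subgroup G}, Nat.card H ∣ 2 ^ k → ∀ c ∈ H, c ^ 2 = 1 := fun hH c hc =>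
    hexp c ((Subgroup.orderOf_dvd_natCard _ hc).trans hH)
  refine ⟨fun hcyc => ?_, fun hn => ?_, fun t ht => ⟨⟨⟨fun a b => Subtype.ext ?_⟩⟩, hord (hcent t ht)⟩⟩
  · obtain ⟨g, hg⟩ := IsCyclic.exists_ofOrder_eq_natCard (α := (T : Subgroup G))
    rw [← Subgroup.orderOf_coe, hT] at hg
    have h := Nat.le_of_dvd two_pos
      (orderOf_dvd_of_pow_eq_one (hord (H := (T : Subgroup G)) (dvd_of_eq hT) g g.2))
    omega
  · rcases hn.eq_bot_or_eq_top with h | h <;> rw [h] at hT
    · rw [Subgroup.card_bot] at hT; omega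
    · rw [Subgroup.card_top] at hT; exact hne hT
  · have hh := hord (hcent t ht)
    have ha := hh a a.2
    have hb := hh b b.2
    have hab := hh _ (mul_mem a.2 b.2)
    rw [sq] at ha hb hab
    calc (a : G) * b = ((a : G) * b)⁻¹ := eq_inv_of_mul_eq_one_left hab
      _ = (b : G)⁻¹ * (a : G)⁻¹ := mul_inv_rev _ _
      _ = b * a := by rw [inv_eq_of_mul_eq_one_left ha, inv_eq_of_mul_eq_one_left hb]

variable [IsSimpleGroup G]

/-- The centralizers of the Sylow subgroups of odd order in a simple group of order 4080. -/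
theorem sylow_odd_4080 (hG : Nat.card G = 4080) [Fact (Nat.Prime 17)] [Fact (Nat.Prime 5)]
    [Fact (Nat.Prime 3)] :
    (Nat.card (Sylow 17 G) = 120 ∧ cPart 17 G = 1) ∧ (Nat.card (Sylow 5 G) = 136 ∧ cPart 5 G = 3) ∧
      (Nat.card (Sylow 3 G) = 136 ∧ cPart 3 G = 5) := by
  have hnc : ¬ IsMulCommutative G := not_comm_of_not_prime (by rw [hG]; norm_num)
  have h17 := mem_singOpts (p := 17) hnc hG (by norm_num) (by norm_num) (by norm_num)
  have h5 := mem_singOpts (p := 5) hnc hG (by norm_num) (by norm_num) (by norm_num)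
  have h3 := mem_singOpts (p := 3) hnc hG (by norm_num) (by norm_num) (by norm_num)
  rw [show singOpts 4080 17 = [(120, 1)] by decide +kernel] at h17
  rw [show singOpts 4080 5 = [(51, 4), (51, 8), (136, 3)] by decide +kernel] at h5
  rw [show singOpts 4080 3 = [(34, 20), (85, 8), (136, 5), (340, 2)] by decide +kernel] at h3
  simp only [List.mem_cons, List.not_mem_nil, or_false, Prod.mk.injEq] at h17 h5 h3
  have hd17 : 17 ∣ Nat.card G ∧ ¬ 17 ^ 2 ∣ Nat.card G := by rw [hG]; norm_num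
  have hd5 : 5 ∣ Nat.card G ∧ ¬ 5 ^ 2 ∣ Nat.card G := by rw [hG]; norm_num
  have hd3 : 3 ∣ Nat.card G ∧ ¬ 3 ^ 2 ∣ Nat.card G := by rw [hG]; norm_num
  have h35 : 3 ∣ cPart 5 G ↔ 5 ∣ cPart 3 G :=
    ⟨dvd_cPart_symm hd5.1 hd5.2 hd3.1 hd3.2 (by norm_num),
      dvd_cPart_symm hd3.1 hd3.2 hd5.1 hd5.2 (by norm_num)⟩
  -- too many singular elements unless three divides the centralizer of a Sylow five subgroup
  have hc5 : Nat.card (Sylow 5 G) = 136 ∧ cPart 5 G = 3 := by
    by_contra hne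
    have hn5 : 816 ≤ Nat.card (Sylow 5 G) * 4 * cPart 5 G ∧ ¬ 3 ∣ cPart 5 G := by
      rcases h5 with ⟨a, b⟩ | ⟨a, b⟩ | ⟨a, b⟩
      · rw [a, b]; norm_num
      · rw [a, b]; norm_num
      · exact absurd ⟨a, b⟩ hne
    have hn3 : Nat.card (Sylow 3 G) * 2 * cPart 3 G = 1360 := by
      rcases h3 with ⟨a, b⟩ | ⟨a, b⟩ | ⟨a, b⟩ | ⟨a, b⟩ <;> rw [a, b]
    have hA := card_singular_ge (G := G) (p := 17) hd17.1 hd17.2
    have hB := card_singular_ge (G := G) (p := 5) hd5.1 hd5.2
    have hC := card_singular_ge (G := G) (p := 3) hd3.1 hd3.2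
    set A := {g : G | 17 ∣ orderOf g}
    set B := {g : G | 5 ∣ orderOf g}
    set C := {g : G | 3 ∣ orderOf g}
    have hAB : Disjoint A B := Set.disjoint_left.2 fun g (hgA : 17 ∣ orderOf g) (hgB : 5 ∣ orderOf g) => by
      have := dvd_cPart_of_dvd_orderOf hd17.1 hd17.2 (q := 5) (by norm_num) (by norm_num) hgA hgB
      rw [h17.2] at this
      norm_num at this
    have hABC : Disjoint (A ∪ B) C := Set.disjoint_left.2 fun g hg (hgC : 3 ∣ orderOf g) => by
      rcases hg with hgA | hgB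
      · have := dvd_cPart_of_dvd_orderOf hd17.1 hd17.2 (q := 3) (by norm_num) (by norm_num)
          (show 17 ∣ orderOf g from hgA) hgC
        rw [h17.2] at this
        norm_num at this
      · exact hn5.2 (dvd_cPart_of_dvd_orderOf hd5.1 hd5.2 (q := 3) (by norm_num) (by norm_num)
          (show 5 ∣ orderOf g from hgB) hgC)
    have hle := Set.ncard_le_ncard (Set.subset_univ (A ∪ B ∪ C)) (Set.toFinite _)
    rw [Set.ncard_univ, hG, Set.ncard_union_eq hABC, Set.ncard_union_eq hAB] at hle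
    rw [h17.1, h17.2] at hA
    norm_num at hA hB hC
    omega
  refine ⟨h17, hc5, ?_⟩
  have h := h35.1 (hc5.2.symm ▸ dvd_rfl)
  rcases h3 with ⟨-, b⟩ | ⟨-, b⟩ | h3 | ⟨-, b⟩
  · -- `V` of order 20 would normalize a Sylow five subgroup
    exfalso
    obtain ⟨P⟩ := (inferInstance : Nonempty (Sylow 3 G))
    obtain ⟨h1, h1', -⟩ := card_centralizer_sylow hd3.1 hd3.2 P
    obtain ⟨S⟩ := exists_csplit P h1
    have hV : Nat.card S.V = 20 := by
      have h2 := S.card_centralizer
      rw [h1', b] at h2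
      omega
    obtain ⟨R⟩ := (inferInstance : Nonempty (Sylow 5 S.V))
    have hR : Nat.card (R : Subgroup S.V) = 5 := by
      simpa using card_sylow_eq (e := 1) (m := 4) (by rw [hV]; norm_num) (by norm_num) R
    have hR1 : Nat.card (Sylow 5 S.V) = 1 := by
      have hi : (R : Subgroup S.V).index = 4 := by
        have := (R : Subgroup S.V).card_mul_index
        rw [hR, hV] at this
        omega
      have hdv := hi ▸ R.card_dvd_index
      have hmod : Nat.card (Sylow 5 S.V) % 5 = 1 := card_sylow_modEq_one 5 S.V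
      have hle := Nat.le_of_dvd (by norm_num) hdv
      interval_cases Nat.card (Sylow 5 S.V) <;> omega
    haveI : (R : Subgroup S.V).Normal := by
      rw [← Subgroup.normalizer_eq_top_iff, ← Subgroup.index_eq_one]
      exact (R.card_eq_index_normalizer).symm.trans hR1
    set R' := (R : Subgroup S.V).map S.V.subtype
    have hR' : Nat.card R' = 5 := (Subgroup.card_map_of_injective S.V.subtype_injective).trans hR
    obtain ⟨Q, hQ⟩ := (IsPGroup.of_card (G := R') (p := 5) (n := 1) (by rw [hR', pow_one])).exists_le_sylow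
    have hQe : R' = (Q : Subgroup G) := Subgroup.eq_of_le_of_card_ge hQ
      (by rw [(card_centralizer_sylow hd5.1 hd5.2 Q).1, hR'])
    have hVN : S.V ≤ normalizer ((Q : Subgroup G) : Set G) := by
      rw [← hQe]
      refine le_trans ?_ (Subgroup.le_normalizer_map (H := (R : Subgroup S.V)) S.V.subtype)
      rw [Subgroup.normalizer_eq_top_iff.2 ‹_›, ← MonoidHom.range_eq_map, Subgroup.range_subtype]
    have h20 := Subgroup.card_dvd_of_le hVN
    have hmul := card_normalizer_mul Q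
    rw [hc5.1, hG] at hmul
    rw [hV, show Nat.card (normalizer ((Q : Subgroup G) : Set G)) = 30 by omega] at h20
    norm_num at h20
  · rw [b] at h; norm_num at h
  · exact h3
  · rw [b] at h; norm_num at h

/-- Every involution centralizer is elementary abelian of order sixteen. -/
theorem elemCent_4080 (hG : Nat.card G = 4080) (T : Sylow 2 G) : CfsgLib.SEmb.ElemCent T := by
  haveI : Fact (Nat.Prime 17) := ⟨by norm_num⟩
  haveI : Fact (Nat.Prime 5) := ⟨by norm_num⟩
  haveI : Fact (Nat.Prime 3) := ⟨by norm_num⟩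
  haveI : Fact (Nat.Prime 2) := ⟨Nat.prime_two⟩
  obtain ⟨h17, h5, h3⟩ := sylow_odd_4080 hG
  have hd17 : 17 ∣ Nat.card G ∧ ¬ 17 ^ 2 ∣ Nat.card G := by rw [hG]; norm_num
  have hd5 : 5 ∣ Nat.card G ∧ ¬ 5 ^ 2 ∣ Nat.card G := by rw [hG]; norm_num
  have hd3 : 3 ∣ Nat.card G ∧ ¬ 3 ^ 2 ∣ Nat.card G := by rw [hG]; norm_num
  have hT : Nat.card (T : Subgroup G) = 2 ^ 4 :=
    card_sylow_eq (G := G) (e := 4) (m := 255) (by rw [hG]; norm_num) (by norm_num) T
  have hodd : ∀ (p : ℕ) [Fact p.Prime], p ∣ Nat.card G → ¬ p ^ 2 ∣ Nat.card G → p ≠ 2 →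
      ¬ 2 ∣ cPart p G → ∀ g : G, 2 ∣ orderOf g → ¬ p ∣ Nat.card (centralizer ({g} : Set G)) := by
    intro p _ hpd hp2 hne hc g hg hpC
    obtain ⟨⟨y, hy⟩, hyo⟩ := exists_prime_orderOf_dvd_card' p hpC
    rw [Subgroup.orderOf_mk] at hyo
    have hcomm : Commute y g := mem_centralizer_singleton_iff.1 hy
    exact hc (dvd_cPart hpd hp2 Nat.prime_two hne.symm hyo
      (orderOf_pow_orderOf_div (orderOf_pos g).ne' hg) (hcomm.pow_right _))
  have hcent : ∀ g : G, 2 ∣ orderOf g → Nat.card (centralizer ({g} : Set G)) ∣ 2 ^ 4 := by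
    intro g hg
    have hd : Nat.card (centralizer ({g} : Set G)) ∣ 2 ^ 4 * (3 * (5 * 17)) := by
      norm_num
      exact hG ▸ Subgroup.card_subgroup_dvd_card _
    refine (Nat.Coprime.dvd_mul_right ?_).1 hd
    refine Nat.Coprime.mul_right ?_ (Nat.Coprime.mul_right ?_ ?_)
    · exact ((Nat.Prime.coprime_iff_not_dvd (by norm_num)).2
        (hodd 3 hd3.1 hd3.2 (by norm_num) (by rw [h3.2]; norm_num) g hg)).symm
    · exact ((Nat.Prime.coprime_iff_not_dvd (by norm_num)).2
        (hodd 5 hd5.1 hd5.2 (by norm_num) (by rw [h5.2]; norm_num) g hg)).symm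
    · exact ((Nat.Prime.coprime_iff_not_dvd (by norm_num)).2
        (hodd 17 hd17.1 hd17.2 (by norm_num) (by rw [h17.2]; norm_num) g hg)).symm
  -- a central involution of `T`
  haveI : Nontrivial (T : Subgroup G) := Finite.one_lt_card_iff_nontrivial.1 (by rw [hT]; norm_num)
  haveI := T.2.center_nontrivial
  obtain ⟨⟨z₀, hz₀⟩, hz₀2⟩ := exists_prime_orderOf_dvd_card' (G := center (T : Subgroup G)) 2 (by
    obtain ⟨n, hn0, hn⟩ := (T.2.to_subgroup _).nontrivial_iff_card.1 ‹_›
    exact hn ▸ dvd_pow_self 2 hn0.ne')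
  rw [← Subgroup.orderOf_coe, ← Subgroup.orderOf_coe] at hz₀2
  set z : G := (z₀ : G)
  change orderOf z = 2 at hz₀2
  have hTz : (T : Subgroup G) ≤ centralizer ({z} : Set G) := fun t ht =>
    mem_centralizer_singleton_iff.2 (congrArg Subtype.val (Subgroup.mem_center_iff.1 hz₀ ⟨t, ht⟩))
  have hCz : centralizer ({z} : Set G) = (T : Subgroup G) :=
    (Subgroup.eq_of_le_of_card_ge hTz (by
      rw [hT]; exact Nat.le_of_dvd (by norm_num) (hcent z (hz₀2 ▸ dvd_rfl)))).symm
  -- counting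
  have hA := card_singular_ge (G := G) (p := 17) hd17.1 hd17.2
  have hB := card_singular_ge (G := G) (p := 5) hd5.1 hd5.2
  set A := {g : G | 17 ∣ orderOf g}
  set B := {g : G | 5 ∣ orderOf g}
  set C := ⋃ P : Sylow 3 G, ((P : Subgroup G) : Set G) \ {1}
  set K := MulAction.orbit (ConjAct G) z
  have hC : C.ncard = 272 := by
    refine (ncard_iUnion_sdiff_one (fun P : Sylow 3 G => (P : Subgroup G))
      (fun P => (card_centralizer_sylow hd3.1 hd3.2 P).1) fun P P' x hx hx' hx1 => ?_).trans (by rw [h3.1])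
    have key : ∀ Q : Sylow 3 G, x ∈ (Q : Subgroup G) → zpowers x = (Q : Subgroup G) := by
      intro Q hxQ
      have hc := (card_centralizer_sylow hd3.1 hd3.2 Q).1
      refine Subgroup.eq_of_le_of_card_ge (zpowers_le.2 hxQ) ?_
      have hd := Subgroup.orderOf_dvd_natCard _ hxQ
      rw [hc] at hd
      rw [Nat.card_zpowers, hc, ((Nat.dvd_prime (by norm_num)).1 hd).resolve_left
        fun h => hx1 (orderOf_eq_one_iff.1 h)]
    exact Sylow.ext ((key P hx).symm.trans (key P' hx'))
  have hK : K.ncard = 255 := by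
    rw [← MulAction.index_stabilizer]
    have h : (centralizer ({z} : Set G)).index = 255 := by
      have h1 := (centralizer ({z} : Set G)).card_mul_index
      rw [hCz, hT, hG] at h1
      rw [hCz]
      omega
    rw [ConjAct.stabilizer_eq_centralizer, ← h]
    rfl
  have hCo : ∀ g ∈ C, orderOf g ∣ 3 := fun g hg => by
    obtain ⟨P, hgP, -⟩ := Set.mem_iUnion.1 hg
    exact (card_centralizer_sylow hd3.1 hd3.2 P).1 ▸ Subgroup.orderOf_dvd_natCard _ hgP
  have hKo : ∀ g ∈ K, orderOf g = 2 := by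
    rintro g ⟨c, rfl⟩
    change orderOf (c • z) = 2
    rw [ConjAct.smul_def, ← MulAut.conj_apply, MulEquiv.orderOf_eq, hz₀2]
  have hAB : Disjoint A B := Set.disjoint_left.2 fun g (hgA : 17 ∣ orderOf g) (hgB : 5 ∣ orderOf g) => by
    have := dvd_cPart_of_dvd_orderOf hd17.1 hd17.2 (q := 5) (by norm_num) (by norm_num) hgA hgB
    rw [h17.2] at this
    norm_num at this
  have hABC : Disjoint (A ∪ B) C := Set.disjoint_left.2 fun g hg hgC => by
    rcases hg with hgA | hgB
    · exact absurd ((show 17 ∣ orderOf g from hgA).trans (hCo g hgC)) (by norm_num)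
    · exact absurd ((show 5 ∣ orderOf g from hgB).trans (hCo g hgC)) (by norm_num)
  have hABCK : Disjoint (A ∪ B ∪ C) K := Set.disjoint_left.2 fun g hg hgK => by
    have h2 := hKo g hgK
    rcases hg with (hgA | hgB) | hgC
    · exact absurd (h2 ▸ (show 17 ∣ orderOf g from hgA)) (by norm_num)
    · exact absurd (h2 ▸ (show 5 ∣ orderOf g from hgB)) (by norm_num)
    · exact absurd (h2 ▸ hCo g hgC) (by norm_num)
  have hone : (1 : G) ∉ A ∪ B ∪ C ∪ K := by
    rintro (((h | h) | h) | h)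
    · have h' : 17 ∣ orderOf (1 : G) := h; rw [orderOf_one] at h'; norm_num at h'
    · have h' : 5 ∣ orderOf (1 : G) := h; rw [orderOf_one] at h'; norm_num at h'
    · obtain ⟨P, -, h1⟩ := Set.mem_iUnion.1 h; exact h1 rfl
    · have := hKo 1 h; rw [orderOf_one] at this; norm_num at this
  have huniv : insert (1 : G) (A ∪ B ∪ C ∪ K) = Set.univ := by
    refine Set.eq_of_subset_of_ncard_le (Set.subset_univ _) ?_ (Set.toFinite _)
    rw [Set.ncard_insert_of_notMem hone, Set.ncard_union_eq hABCK, Set.ncard_union_eq hABC,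
      Set.ncard_union_eq hAB, hC, hK, Set.ncard_univ, hG]
    rw [h17.1, h17.2] at hA
    rw [h5.1, h5.2] at hB
    omega
  refine elemCent_of_exponent T (by norm_num) hT (by rw [hG]; norm_num) (fun g hg16 => ?_)
    fun t ht => hcent t (ht ▸ dvd_rfl)
  by_cases hg : g = 1
  · rw [hg, one_pow]
  rcases (huniv.symm.le (Set.mem_univ g)).resolve_left hg with ((h | h) | h) | h
  · exact absurd ((show 17 ∣ orderOf g from h).trans hg16) (by norm_num)
  · exact absurd ((show 5 ∣ orderOf g from h).trans hg16) (by norm_num)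
  · exact absurd (orderOf_eq_one_iff.1 (Nat.eq_one_of_dvd_coprimes (by norm_num : Nat.Coprime 3 (2 ^ 4))
      (hCo g h) hg16)) hg
  · rw [← hKo g h, pow_orderOf_eq_one]

end CfsgLib.SmallPSL
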